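import Groth.Agent.SymTen54.Basic
import Groth.Agent.PolLaw95.TensorKer
import Mathlib.RingTheory.Flat.EquationalCriterion
import Mathlib.LinearAlgebra.FreeModule.Basic

set_option autoImplicit false
universe u
open scoped TensorProduct

namespace Groth.Agent.SymTen54

variable {R : Type u} [CommRing R] {N : Type u} [AddCommGroup N] [Module R N] {n : ℕ}

/-- An element of a span is already in the span of finitely many generators. -/
theorem exists_finset_slot {F : Type u} [AddCommGroup F] [Module R F] (π : F →ₗ[R] N) {x : ⨂[R] _ : Fin n, F}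
    (hx : x ∈ PolLaw95.slotKer π) :
    ∃ T : Finset (Fin n → F), (∀ v ∈ T, ∃ i, π (v i) = 0) ∧
      x ∈ Submodule.span R (⇑(PiTensorProduct.tprod R) '' (T : Set (Fin n → F))) := by
  classical
  induction hx using Submodule.span_induction with
  | mem t ht =>
    obtain ⟨v, hv, rfl⟩ := ht
    exact ⟨{v}, by simpa using hv, Submodule.subset_span (by simp)⟩
  | zero => exact ⟨∅, by simp, zero_mem _⟩
  | add a b _ _ ha hb =>
    obtain ⟨T, hT, hxT⟩ := ha
    obtain ⟨U, hU, hxU⟩ := hb
    refine ⟨T ∪ U, fun v hv => (Finset.mem_union.mp hv).elim (hT v) (hU v), ?_⟩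
    rw [Finset.coe_union, Set.image_union]
    exact add_mem (Submodule.span_mono Set.subset_union_left hxT) (Submodule.span_mono Set.subset_union_right hxU)
  | smul r a _ ha =>
    obtain ⟨T, hT, hxT⟩ := ha
    exact ⟨T, hT, Submodule.smul_mem _ r hxT⟩

theorem exists_finset_tprod {F : Type u} [AddCommGroup F] [Module R F] (x : ⨂[R] _ : Fin n, F) :
    ∃ T : Finset (Fin n → F), x ∈ Submodule.span R (⇑(PiTensorProduct.tprod R) '' (T : Set (Fin n → F))) := by
  classical
  induction x using PiTensorProduct.induction_on with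
  | smul_tprod c v => exact ⟨{v}, Submodule.smul_mem _ _ (Submodule.subset_span (by simp))⟩
  | add a b ha hb =>
    obtain ⟨T, hT⟩ := ha
    obtain ⟨U, hU⟩ := hb
    refine ⟨T ∪ U, ?_⟩
    rw [Finset.coe_union, Set.image_union]
    exact add_mem (Submodule.span_mono Set.subset_union_left hT) (Submodule.span_mono Set.subset_union_right hU)

theorem mem_range_map {M F : Type u} [AddCommGroup M] [Module R M] [AddCommGroup F] [Module R F] (g : M →ₗ[R] F)
    {T : Finset (Fin n → F)} (hT : ∀ v ∈ T, ∀ i, v i ∈ LinearMap.range g) {x : ⨂[R] _ : Fin n, F}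
    (hx : x ∈ Submodule.span R (⇑(PiTensorProduct.tprod R) '' (T : Set (Fin n → F)))) :
    x ∈ LinearMap.range (PiTensorProduct.map fun _ : Fin n => g) := by
  refine Submodule.span_le.mpr ?_ hx
  rintro _ ⟨v, hv, rfl⟩
  choose w hw using hT v hv
  exact ⟨PiTensorProduct.tprod R w, by rw [PiTensorProduct.map_tprod]; exact congrArg _ (funext hw)⟩

/-- Symmetric tensors of a flat module, and a relation between them, come from a finite free module. -/
theorem exists_free_model [Module.Flat R N] {l : ℕ} (z : Fin l → ⨂[R] _ : Fin n, N)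
    (hz : ∀ i, ∀ σ : Equiv.Perm (Fin n), PiTensorProduct.reindex R (fun _ : Fin n => N) σ (z i) = z i)
    (a : Fin l → R) (ha : ∑ i, a i • z i = 0) :
    ∃ (m : ℕ) (g : (Fin m → R) →ₗ[R] N) (z' : Fin l → ⨂[R] _ : Fin n, (Fin m → R)),
      (∀ i, ∀ σ : Equiv.Perm (Fin n), PiTensorProduct.reindex R (fun _ : Fin n => (Fin m → R)) σ (z' i) = z' i) ∧
      (∀ i, PiTensorProduct.map (fun _ : Fin n => g) (z' i) = z i) ∧ ∑ i, a i • z' i = 0 := by
  classical
  let π : (N →₀ R) →ₗ[R] N := Finsupp.linearCombination R id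
  have hπ : Function.Surjective π := fun x => ⟨Finsupp.single x 1, by simp [π]⟩
  have hpow : Function.Surjective (PiTensorProduct.map fun _ : Fin n => π) := by
    intro x
    induction x using PiTensorProduct.induction_on with
    | smul_tprod c v =>
      exact ⟨c • PiTensorProduct.tprod R fun i => Finsupp.single (v i) 1, by
        simp [PiTensorProduct.map_tprod, π]⟩
    | add x y hx hy =>
      obtain ⟨p, rfl⟩ := hx
      obtain ⟨q, rfl⟩ := hy
      exact ⟨p + q, map_add _ _ _⟩
  choose y hy using fun i => hpow (z i)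
  let D : Option (Fin l × Equiv.Perm (Fin n)) → ⨂[R] _ : Fin n, (N →₀ R) := fun o =>
    match o with
    | none => ∑ i, a i • y i
    | some p => PiTensorProduct.reindex R (fun _ : Fin n => N →₀ R) p.2 (y p.1) - y p.1
  have hD : ∀ o, D o ∈ PolLaw95.slotKer π := by
    intro o
    refine PolLaw95.mem_slotKer_of_map_eq_zero π hπ _ ?_
    cases o with
    | none => simp only [D, map_sum, map_smul, hy, ha]
    | some p => simp only [D, map_sub, map_reindex, hy, hz, sub_self]
  choose U hU hDU using fun o => exists_finset_slot π (hD o)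
  choose T hT using fun i => exists_finset_tprod (y i)
  let V : Finset (Fin n → (N →₀ R)) := (Finset.univ.biUnion T) ∪ (Finset.univ.biUnion U)
  let E : Finset (N →₀ R) := V.biUnion fun v => Finset.univ.image v
  let S : Finset N := E.biUnion Finsupp.support
  let K : Finset (N →₀ R) := E.filter fun k => π k = 0
  -- coordinates on `S`
  let q : (N →₀ R) →ₗ[R] (S →₀ R) := Finsupp.lcomapDomain Subtype.val Subtype.val_injective
  let ι : (S →₀ R) →ₗ[R] (N →₀ R) := Finsupp.lmapDomain R R Subtype.val
  have hιq : ∀ v ∈ V, ∀ i, ι (q (v i)) = v i := by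
    intro v hv i
    refine Finsupp.mapDomain_comapDomain _ Subtype.val_injective _ fun x hx => ?_
    exact ⟨⟨x, Finset.mem_biUnion.mpr ⟨v i, Finset.mem_biUnion.mpr
      ⟨v, hv, Finset.mem_image_of_mem _ (Finset.mem_univ i)⟩, hx⟩⟩, rfl⟩
  have hfix : ∀ {T' : Finset (Fin n → (N →₀ R))}, T' ⊆ V → ∀ {x : ⨂[R] _ : Fin n, (N →₀ R)},
      x ∈ Submodule.span R (⇑(PiTensorProduct.tprod R) '' (T' : Set (Fin n → (N →₀ R)))) →
      PiTensorProduct.map (fun _ : Fin n => ι ∘ₗ q) x = x := by
    intro T' hT' x hx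
    refine LinearMap.eqOn_span (g := LinearMap.id) ?_ hx
    rintro _ ⟨v, hv, rfl⟩
    rw [PiTensorProduct.map_tprod, LinearMap.id_apply]
    exact congrArg _ (funext (hιq v (hT' hv)))
  let rel : (K →₀ R) →ₗ[R] (S →₀ R) := Finsupp.linearCombination R fun k : K => q (k : N →₀ R)
  have hrel : (π ∘ₗ ι) ∘ₗ rel = 0 := by
    refine Finsupp.lhom_ext fun k r => ?_
    obtain ⟨hkE, hk0⟩ := Finset.mem_filter.mp k.2
    obtain ⟨v, hv, hk⟩ := Finset.mem_biUnion.mp hkE
    obtain ⟨i, -, hi⟩ := Finset.mem_image.mp hk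
    simp only [LinearMap.comp_apply, rel, Finsupp.linearCombination_single, map_smul, LinearMap.zero_apply]
    rw [← hi, hιq v hv i, hi, hk0, smul_zero]
  obtain ⟨m, f, g, hg, hf⟩ := Module.Flat.exists_factorization_of_comp_eq_zero_of_free hrel
  let e : (Fin m →₀ R) ≃ₗ[R] (Fin m → R) := Finsupp.linearEquivFunOnFinite R R (Fin m)
  let r : (N →₀ R) →ₗ[R] (Fin m → R) := e.toLinearMap ∘ₗ f ∘ₗ q
  refine ⟨m, g ∘ₗ e.symm.toLinearMap, fun i => PiTensorProduct.map (fun _ : Fin n => r) (y i), ?_, ?_, ?_⟩
  case refine_2 =>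
    intro i
    rw [← LinearMap.comp_apply, ← PiTensorProduct.map_comp,
      show (fun _ : Fin n => (g ∘ₗ e.symm.toLinearMap) ∘ₗ r) = fun _ => π ∘ₗ (ι ∘ₗ q) from funext fun _ => by
        refine LinearMap.ext fun x => ?_
        have := LinearMap.congr_fun hg (q x)
        simp only [LinearMap.comp_apply, r, LinearEquiv.coe_coe, LinearEquiv.symm_apply_apply] at this ⊢
        exact this.symm,
      PiTensorProduct.map_comp, LinearMap.comp_apply,
      hfix (fun v hv => Finset.mem_union_left _ (Finset.mem_biUnion.mpr ⟨i, Finset.mem_univ i, hv⟩)) (hT i), hy]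
  all_goals
    have hkill : ∀ o, PiTensorProduct.map (fun _ : Fin n => r) (D o) = 0 := by
      intro o
      refine LinearMap.eqOn_span (g := 0) ?_ (hDU o)
      rintro _ ⟨v, hv, rfl⟩
      obtain ⟨i, hi⟩ := hU o v hv
      rw [PiTensorProduct.map_tprod, LinearMap.zero_apply]
      refine MultilinearMap.map_coord_zero _ i ?_
      have hvV : v ∈ V := Finset.mem_union_right _ (Finset.mem_biUnion.mpr ⟨o, Finset.mem_univ _, hv⟩)
      have hk : v i ∈ K := Finset.mem_filter.mpr
        ⟨Finset.mem_biUnion.mpr ⟨v, hvV, Finset.mem_image_of_mem _ (Finset.mem_univ i)⟩, hi⟩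
      have h0 := LinearMap.congr_fun hf (Finsupp.single ⟨v i, hk⟩ 1)
      simp only [LinearMap.comp_apply, rel, Finsupp.linearCombination_single, one_smul,
        LinearMap.zero_apply] at h0
      simp only [r, LinearMap.comp_apply, h0, map_zero]
  · intro i σ
    have h := hkill (some (i, σ))
    simp only [D, map_sub, map_reindex, sub_eq_zero] at h
    exact h
  · have h := hkill none
    simpa only [D, map_sum, map_smul] using h

end Groth.Agent.SymTen54
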