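import Groth.Agent.PolLaw95.FlatTS

set_option autoImplicit false
universe u
open scoped TensorProduct

namespace Groth.Agent.SymTen54

variable (R : Type u) [CommRing R] (A : Type u) [CommRing A] [Algebra R A] (d : ℕ)

/-- The generators. -/
def elemSym : Set (⨂[R] _ : Fin d, A) :=
  {t | ∃ (a : A) (j : ℕ), t = ∑ I ∈ (Finset.univ : Finset (Fin d)).powersetCard j,
    PiTensorProduct.tprod R (fun i : Fin d => if i ∈ I then a else (1 : A))}

variable {R A d}

theorem elemSym_subset_TS : elemSym R A d ⊆ (SymTen.TS R A d : Set (⨂[R] _ : Fin d, A)) := by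
  classical
  rintro _ ⟨a, j, rfl⟩ σ
  rw [map_sum]
  refine Finset.sum_nbij' (fun I => I.map σ.toEmbedding) (fun I => I.map σ.symm.toEmbedding)
    (fun I hI => by simpa [Finset.mem_powersetCard] using hI)
    (fun I hI => by simpa [Finset.mem_powersetCard] using hI)
    (fun I _ => by ext; simp) (fun I _ => by ext; simp) fun I _ => ?_
  rw [PiTensorProduct.reindex_tprod]
  congr 1
  funext i
  simp [Finset.mem_map_equiv]

section Weight

variable {I : Type} [DecidableEq I]

/-- Occurrences of each index. -/
def cnt (c : Fin d → Option I) (j : I) : ℕ := (Finset.univ.filter fun i => c i = some j).card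

variable (R) in
/-- The pure tensor of a word, `none` standing for `1`. -/
noncomputable def term (b : I → A) (c : Fin d → Option I) : ⨂[R] _ : Fin d, A :=
  PiTensorProduct.tprod R fun i => (c i).elim 1 b

/-- Combining a word with a subset. -/
def mergeW (j0 : I) (p : (Fin d → Option I) × Finset (Fin d)) : Fin d → Option (I ⊕ I) := fun i =>
  if i ∈ p.2 then (p.1 i).elim (some (Sum.inl j0)) (fun j => some (Sum.inr j)) else (p.1 i).map Sum.inl

/-- The word underlying a combined word. -/
def splitW (j0 : I) (c : Fin d → Option (I ⊕ I)) : Fin d → Option I := fun i =>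
  (c i).elim none (Sum.elim (fun j => if j = j0 then none else some j) some)

/-- The subset underlying a combined word. -/
def splitS (j0 : I) (c : Fin d → Option (I ⊕ I)) : Finset (Fin d) :=
  Finset.univ.filter fun i => (c i).elim false (Sum.elim (fun j => decide (j = j0)) fun _ => true) = true

theorem term_mergeW (b : I → A) (j0 : I) (p : (Fin d → Option I) × Finset (Fin d)) :
    term R (Sum.elim b fun j => b j * b j0) (mergeW j0 p) =
      term R b p.1 * PiTensorProduct.tprod R (fun i => if i ∈ p.2 then b j0 else 1) := by
  rw [term, term, PiTensorProduct.tprod_mul_tprod]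
  congr 1
  funext i
  rcases hc : p.1 i with _ | j <;> by_cases hi : i ∈ p.2 <;> simp [mergeW, hc, hi]

theorem cnt_splitW (j0 : I) (c : Fin d → Option (I ⊕ I)) (j : I) :
    cnt (splitW j0 c) j = (if j = j0 then 0 else cnt c (Sum.inl j)) + cnt c (Sum.inr j) := by
  unfold cnt
  by_cases hj : j = j0
  · rw [if_pos hj, zero_add]
    congr 1
    ext i
    simp only [Finset.mem_filter, Finset.mem_univ, true_and, splitW]
    rcases c i with _ | (k | k)
    · simp
    · by_cases hk : k = j0 <;> simp [hk, hj]
    · simp
  · rw [if_neg hj, ← Finset.card_union_of_disjoint]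
    · congr 1
      ext i
      simp only [Finset.mem_filter, Finset.mem_univ, true_and, splitW, Finset.mem_union]
      rcases c i with _ | (k | k)
      · simp
      · by_cases hk : k = j0
        · simp [hk, Ne.symm hj]
        · simp [hk]
      · simp
    · exact Finset.disjoint_filter.mpr fun i _ h h' => by simp [h] at h'

theorem card_splitS [Fintype I] (j0 : I) (c : Fin d → Option (I ⊕ I)) :
    (splitS j0 c).card = cnt c (Sum.inl j0) + ∑ j, cnt c (Sum.inr j) := by
  classical
  unfold cnt
  rw [← Finset.card_biUnion (fun x _ y _ h => Finset.disjoint_filter.mpr fun i _ h1 h2 =>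
      h (by simpa using h1.symm.trans h2)), ← Finset.card_union_of_disjoint]
  · congr 1
    ext i
    simp only [splitS, Finset.mem_filter, Finset.mem_univ, true_and, Finset.mem_union, Finset.mem_biUnion]
    rcases c i with _ | (k | k) <;> simp
  · rw [Finset.disjoint_biUnion_right]
    exact fun j _ => Finset.disjoint_filter.mpr fun i _ h h' => by simp [h] at h'

theorem sum_term_mem : ∀ (w : ℕ) {I : Type} [Fintype I] [DecidableEq I] (b : I → A) (β : I → ℕ),
    ∑ j, β j = w →
    ∑ c ∈ (Finset.univ : Finset (Fin d → Option I)).filter (fun c => cnt c = β), term R b c ∈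
      Algebra.adjoin R (elemSym R A d) := by
  classical
  intro w
  induction w using Nat.strong_induction_on with
  | _ w ih =>
  intro I _ _ b β hw
  by_cases h0 : ∀ j, β j = 0
  · rw [Finset.sum_eq_single (fun _ => none)]
    · show PiTensorProduct.tprod R (fun _ : Fin d => (1 : A)) ∈ _
      exact one_mem (Algebra.adjoin R (elemSym R A d))
    · intro c hc hne
      exfalso
      apply hne
      funext i
      rcases hi : c i with _ | j
      · rfl
      · have h1 : cnt c j = 0 := by rw [(Finset.mem_filter.mp hc).2]; exact h0 j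
        rw [cnt, Finset.card_eq_zero, Finset.filter_eq_empty_iff] at h1
        exact absurd hi (h1 (Finset.mem_univ i))
    · intro h
      refine absurd ?_ h
      exact Finset.mem_filter.mpr ⟨Finset.mem_univ _, funext fun j => by simp [cnt, h0 j]⟩
  push Not at h0
  obtain ⟨j0, hj0⟩ := h0
  set k := β j0
  set β' := Function.update β j0 0
  set b'' : I ⊕ I → A := Sum.elim b fun j => b j * b j0
  set F := (Finset.univ : Finset (Fin d → Option I)).filter (fun c => cnt c = β')
  set P := (Finset.univ : Finset (Fin d)).powersetCard k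
  have hβ' : β' j0 = 0 := Function.update_self ..
  have hw' : ∑ j, β' j + k = w := by
    have e1 := Finset.sum_update_of_mem (Finset.mem_univ j0) β 0
    have e2 : ∑ j, β j = β j0 + ∑ j ∈ Finset.univ \ {j0}, β j := by
      rw [← Finset.add_sum_erase _ _ (Finset.mem_univ j0), Finset.sdiff_singleton_eq_erase]
    simp only [β', k] at *
    omega
  -- the combined words are the union of fibres of `cnt`
  let Q : (I ⊕ I → ℕ) → Prop := fun γ => (∀ j, (if j = j0 then 0 else γ (Sum.inl j)) + γ (Sum.inr j) = β' j) ∧
    γ (Sum.inl j0) + ∑ j, γ (Sum.inr j) = k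
  have hprod : (∑ c ∈ F, term R b c) * (∑ s ∈ P, PiTensorProduct.tprod R (fun i => if i ∈ s then b j0 else 1)) =
      ∑ c ∈ (Finset.univ : Finset (Fin d → Option (I ⊕ I))).filter (fun c => Q (cnt c)), term R b'' c := by
    rw [Finset.sum_mul_sum, ← Finset.sum_product']
    have hF : ∀ p ∈ F ×ˢ P, ∀ i, p.1 i ≠ some j0 := by
      intro p hp i hi
      have h : cnt p.1 j0 = 0 := by rw [(Finset.mem_filter.mp (Finset.mem_product.mp hp).1).2, hβ']
      rw [cnt, Finset.card_eq_zero, Finset.filter_eq_empty_iff] at h
      exact h (Finset.mem_univ i) hi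
    have hsplit : ∀ p ∈ F ×ˢ P, splitW j0 (mergeW j0 p) = p.1 ∧ splitS j0 (mergeW j0 p) = p.2 := by
      intro p hp
      constructor
      · funext i
        have := hF p hp i
        rcases hc : p.1 i with _ | j <;> by_cases hi : i ∈ p.2 <;> simp_all [splitW, mergeW]
      · ext i
        have := hF p hp i
        rcases hc : p.1 i with _ | j <;> by_cases hi : i ∈ p.2 <;> simp_all [splitS, mergeW]
    have hQ : ∀ c : Fin d → Option (I ⊕ I), Q (cnt c) ↔ (splitW j0 c, splitS j0 c) ∈ F ×ˢ P := by
      intro c
      simp only [Q, F, P, Finset.mem_product, Finset.mem_filter, Finset.mem_univ, true_and,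
        Finset.mem_powersetCard, Finset.subset_univ, card_splitS, funext_iff, cnt_splitW]
    refine Finset.sum_bij' (fun p _ => mergeW j0 p) (fun c _ => (splitW j0 c, splitS j0 c))
      (fun p hp => ?_) (fun c hc => (hQ c).mp (Finset.mem_filter.mp hc).2)
      (fun p hp => Prod.ext (hsplit p hp).1 (hsplit p hp).2) (fun c hc => ?_)
      (fun p _ => (term_mergeW b j0 p).symm)
    · refine Finset.mem_filter.mpr ⟨Finset.mem_univ _, (hQ _).mpr ?_⟩
      rw [(hsplit p hp).1, (hsplit p hp).2]
      exact hp
    · funext i
      have h : cnt c (Sum.inr j0) = 0 := by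
        have := (Finset.mem_filter.mp hc).2.1 j0
        simpa [hβ'] using this
      rw [cnt, Finset.card_eq_zero, Finset.filter_eq_empty_iff] at h
      rcases hi : c i with _ | (j | j)
      · simp [mergeW, splitW, splitS, hi]
      · by_cases hj : j = j0 <;> simp [mergeW, splitW, splitS, hi, hj]
      · have hj : j ≠ j0 := fun e => h (Finset.mem_univ i) (e ▸ hi)
        simp [mergeW, splitW, splitS, hi]
  set D := (Finset.univ : Finset (Fin d → Option (I ⊕ I))).filter (fun c => Q (cnt c))
  let γ0 : I ⊕ I → ℕ := Sum.elim β 0
  rw [← Finset.sum_fiberwise_of_maps_to (g := cnt) (t := insert γ0 (D.image cnt))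
    (fun c hc => Finset.mem_insert_of_mem (Finset.mem_image_of_mem _ hc))] at hprod
  rw [← Finset.add_sum_erase _ _ (Finset.mem_insert_self γ0 _)] at hprod
  have hQ0 : Q γ0 := by
    refine ⟨fun j => ?_, by simp [γ0, k]⟩
    by_cases hj : j = j0
    · simp [γ0, hj, hβ']
    · simp [γ0, hj, β']
  have hrest : ∀ γ ∈ (insert γ0 (D.image cnt)).erase γ0, ∑ c ∈ D.filter (fun c => cnt c = γ), term R b'' c ∈
      Algebra.adjoin R (elemSym R A d) := by
    intro γ hγ
    obtain ⟨hne, hγ⟩ := Finset.mem_erase.mp hγ
    obtain ⟨c, hc, rfl⟩ := Finset.mem_image.mp ((Finset.mem_insert.mp hγ).resolve_left hne)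
    have hQc := (Finset.mem_filter.mp hc).2
    rw [show D.filter (fun c' => cnt c' = cnt c) =
        (Finset.univ : Finset (Fin d → Option (I ⊕ I))).filter (fun c' => cnt c' = cnt c) by
      ext c'
      simp only [D, Finset.mem_filter, Finset.mem_univ, true_and, and_iff_right_iff_imp]
      exact fun e => e ▸ hQc]
    refine ih (∑ x, cnt c x) ?_ b'' (cnt c) rfl
    obtain ⟨q1, q2⟩ := hQc
    have e : ∑ j, β' j = (∑ j, if j = j0 then 0 else cnt c (Sum.inl j)) + ∑ j, cnt c (Sum.inr j) := by
      rw [← Finset.sum_add_distrib]
      exact Finset.sum_congr rfl fun j _ => (q1 j).symm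
    have e' : ∑ j, cnt c (Sum.inl j) = (∑ j, if j = j0 then 0 else cnt c (Sum.inl j)) + cnt c (Sum.inl j0) := by
      rw [← Finset.add_sum_erase _ _ (Finset.mem_univ j0), add_comm,
        ← Finset.add_sum_erase _ (fun j => if j = j0 then 0 else cnt c (Sum.inl j)) (Finset.mem_univ j0),
        if_pos rfl, zero_add]
      congr 1
      exact Finset.sum_congr rfl fun j hj => (if_neg (Finset.ne_of_mem_erase hj)).symm
    rw [Fintype.sum_sum_type]
    by_contra hlt
    apply hne
    have hr : ∑ j, cnt c (Sum.inr j) = 0 := by omega
    have hr' : ∀ j, cnt c (Sum.inr j) = 0 := fun j => (Finset.sum_eq_zero_iff.mp hr) j (Finset.mem_univ j)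
    funext x
    rcases x with j | j
    · by_cases hj : j = j0
      · simp only [γ0, Sum.elim_inl, hj]; omega
      · have := q1 j
        simp only [if_neg hj, hr', add_zero, β', Function.update_of_ne hj] at this
        simpa [γ0] using this
    · simp [γ0, hr']
  have htop : ∑ c ∈ D.filter (fun c => cnt c = γ0), term R b'' c =
      ∑ c ∈ (Finset.univ : Finset (Fin d → Option I)).filter (fun c => cnt c = β), term R b c := by
    refine (Finset.sum_bij' (fun c _ => Option.map Sum.inl ∘ c)
      (fun c _ => fun i => (c i).bind (Sum.elim some fun _ => none)) (fun c hc => ?_) (fun c hc => ?_)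
      (fun c _ => ?_) (fun c hc => ?_) (fun c _ => ?_)).symm
    · have h : cnt (Option.map Sum.inl ∘ c) = γ0 := by
        funext x
        rcases x with j | j
        · simp only [γ0, Sum.elim_inl, ← (Finset.mem_filter.mp hc).2, cnt, Function.comp_apply]
          congr 1
          ext i
          rcases c i with _ | l <;> simp
        · simp only [γ0, Sum.elim_inr, Pi.zero_apply, cnt, Finset.card_eq_zero, Finset.filter_eq_empty_iff,
            Function.comp_apply]
          intro i _
          rcases c i with _ | l <;> simp
      exact Finset.mem_filter.mpr ⟨Finset.mem_filter.mpr ⟨Finset.mem_univ _, h ▸ hQ0⟩, h⟩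
    · have h := (Finset.mem_filter.mp hc).2
      refine Finset.mem_filter.mpr ⟨Finset.mem_univ _, funext fun j => ?_⟩
      rw [show β j = γ0 (Sum.inl j) from rfl, ← h, cnt, cnt]
      congr 1
      ext i
      simp only [Finset.mem_filter, Finset.mem_univ, true_and]
      rcases c i with _ | (l | l) <;> simp
    · funext i
      rcases hi : c i with _ | l <;> simp [hi]
    · funext i
      have h := (Finset.mem_filter.mp hc).2
      rcases hi : c i with _ | (l | l)
      · simp [hi]
      · simp [hi]
      · have h1 : cnt c (Sum.inr l) = 0 := by rw [h]; rfl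
        rw [cnt, Finset.card_eq_zero, Finset.filter_eq_empty_iff] at h1
        exact absurd hi (h1 (Finset.mem_univ i))
    · simp only [term, b'']
      congr 1
      funext i
      rcases hi : c i with _ | l <;> simp [hi]
  rw [htop] at hprod
  rw [eq_sub_of_add_eq hprod.symm]
  refine sub_mem (mul_mem (ih _ ?_ b β' rfl) (Algebra.subset_adjoin ⟨b j0, k, rfl⟩)) (sum_mem hrest)
  have : 0 < k := Nat.pos_of_ne_zero hj0
  omega

end Weight

theorem TS_le_adjoin [Module.Flat R A] : SymTen.TS R A d ≤ Algebra.adjoin R (elemSym R A d) := by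
  classical
  intro t ht
  have h : (⟨t, ht⟩ : SymTen.TS R A d) ∈ PolLaw95.coefSpan (PolLaw95.sym R A d).law := by
    rw [PolLaw95.coefSpan_eq_top _ PolLaw95.isGammaD_sym_of_flat]
    exact Submodule.mem_top
  suffices key : ∀ x : SymTen.TS R A d, x ∈ PolLaw95.coefSpan (PolLaw95.sym R A d).law →
      (x : ⨂[R] _ : Fin d, A) ∈ Algebra.adjoin R (elemSym R A d) from key _ h
  intro x hx
  induction hx using Submodule.span_induction with
  | mem y hy =>
    obtain ⟨n, b, β, rfl⟩ := hy
    rw [PolLaw95.val_sym_coef, PolLaw95.sym0_coef, ← Finset.sum_filter]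
    by_cases hd : ∑ j, β j = d
    · have h1 := sum_term_mem (R := R) (d := d) _ b (fun j => β j) rfl
      convert h1 using 1
      refine Finset.sum_bij (fun c _ => some ∘ c) (fun c hc => ?_) (fun c _ c' _ e => ?_) (fun c hc => ?_)
        (fun c _ => rfl)
      · refine Finset.mem_filter.mpr ⟨Finset.mem_univ _, funext fun j => ?_⟩
        rw [← (Finset.mem_filter.mp hc).2, PolLaw95.counts_apply]
        simp [cnt]
      · funext i
        exact Option.some_injective _ (congrFun e i)
      · have hc' := (Finset.mem_filter.mp hc).2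
        have hall : ∀ i, c i ≠ none := by
          have hsum : ∑ o : Option (Fin n), (Finset.univ.filter fun i => c i = o).card = d := by
            rw [← Finset.card_eq_sum_card_fiberwise (fun i _ => Finset.mem_univ (c i)), Finset.card_univ,
              Fintype.card_fin]
          rw [Fintype.sum_option] at hsum
          have : (Finset.univ.filter fun i => c i = none).card = 0 := by
            have e : ∑ j : Fin n, (Finset.univ.filter fun i => c i = some j).card = d := by
              exact (Finset.sum_congr rfl fun j _ => congrFun hc' j).trans hd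
            omega
          rw [Finset.card_eq_zero, Finset.filter_eq_empty_iff] at this
          exact fun i => this (Finset.mem_univ i)
        choose g hg using fun i => Option.ne_none_iff_exists'.mp (hall i)
        refine ⟨g, Finset.mem_filter.mpr ⟨Finset.mem_univ _, Finsupp.ext fun j => ?_⟩, funext fun i => (hg i).symm⟩
        rw [PolLaw95.counts_apply, ← congrFun hc' j, cnt]
        congr 1
        ext i
        simp [hg]
    · rw [Finset.sum_eq_zero]
      · exact zero_mem _
      · intro c hc
        exfalso
        apply hd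
        rw [← (Finset.mem_filter.mp hc).2]
        simp only [PolLaw95.counts_apply]
        rw [← Finset.card_eq_sum_card_fiberwise (fun i _ => Finset.mem_univ (c i)), Finset.card_univ,
          Fintype.card_fin]
  | zero => exact zero_mem _
  | add a b _ _ ha hb => exact add_mem ha hb
  | smul r a _ ha => exact Subalgebra.smul_mem _ ha r

end Groth.Agent.SymTen54
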