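import Groth.Prelude.Def_SymTen
import Groth.Prelude.Def_W4c5normfunctorschNorm
import Mathlib.LinearAlgebra.PiTensorProduct.Basis
import Mathlib.LinearAlgebra.Alternating.Basic
import Mathlib.LinearAlgebra.Quotient.Basic
import Mathlib.Algebra.BigOperators.Group.Finset.Basic
import Mathlib.Algebra.Module.Projective
import Mathlib.RingTheory.Finiteness.Basic

set_option autoImplicit false
universe u
open scoped TensorProduct

namespace Groth.Agent.SymTen54

variable {R : Type u} [CommRing R] {d : ℕ}

section Action
variable {A : Type u} [CommRing A] [Algebra R A]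
  {P : Type u} [AddCommGroup P] [Module R P] [Module A P] [IsScalarTower R A P]

theorem tpowAct_tprod (a : Fin d → A) (p : Fin d → P) :
    SymTen.tpowAct R A P d (PiTensorProduct.tprod R a) (PiTensorProduct.tprod R p) =
      PiTensorProduct.tprod R (fun i => a i • p i) := by
  simp [SymTen.tpowAct]

theorem reindex_tpowAct (σ : Equiv.Perm (Fin d)) (a : ⨂[R] _ : Fin d, A) (y : ⨂[R] _ : Fin d, P) :
    PiTensorProduct.reindex R (fun _ : Fin d => P) σ (SymTen.tpowAct R A P d a y) =
      SymTen.tpowAct R A P d (PiTensorProduct.reindex R (fun _ : Fin d => A) σ a)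
        (PiTensorProduct.reindex R (fun _ : Fin d => P) σ y) := by
  induction a using PiTensorProduct.induction_on with
  | smul_tprod r f =>
    induction y using PiTensorProduct.induction_on with
    | smul_tprod s g =>
      simp only [map_smul, LinearMap.smul_apply, tpowAct_tprod, PiTensorProduct.reindex_tprod]
    | add x y hx hy => simp only [map_add, hx, hy]
  | add x y hx hy => simp only [map_add, LinearMap.add_apply, hx, hy]

theorem tpowAct_eq_mul (a y : ⨂[R] _ : Fin d, A) : SymTen.tpowAct R A A d a y = a * y := by
  induction a using PiTensorProduct.induction_on with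
  | smul_tprod r f =>
    induction y using PiTensorProduct.induction_on with
    | smul_tprod s g =>
      simp only [map_smul, LinearMap.smul_apply, tpowAct_tprod, smul_mul_assoc, mul_smul_comm,
        PiTensorProduct.tprod_mul_tprod]
      rfl
    | add x y hx hy => simp only [map_add, mul_add, hx, hy]
  | add x y hx hy => simp only [map_add, LinearMap.add_apply, add_mul, hx, hy]

end Action

section Alt
variable (R) (M : Type u) [AddCommGroup M] [Module R M] (d)

/-- `tprod` modulo `altSpan`, as an alternating map. -/
noncomputable def altMk : M [⋀^Fin d]→ₗ[R] ((⨂[R] _ : Fin d, M) ⧸ SymTen.altSpan R M d) where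
  toMultilinearMap := (SymTen.altSpan R M d).mkQ.compMultilinearMap (PiTensorProduct.tprod R)
  map_eq_zero_of_eq' v i j h hij :=
    (Submodule.Quotient.mk_eq_zero _).mpr (Submodule.subset_span ⟨v, i, j, hij, h, rfl⟩)

theorem altMk_apply (v : Fin d → M) :
    altMk R d M v = (SymTen.altSpan R M d).mkQ (PiTensorProduct.tprod R v) := rfl

variable {R d M}

theorem mem_altSpan_of_reindex_swap_eq_self {κ : Type*} (b : Module.Basis κ R M) {i j : Fin d} (hij : i ≠ j)
    (t : ⨂[R] _ : Fin d, M)
    (ht : PiTensorProduct.reindex R (fun _ : Fin d => M) (Equiv.swap i j) t = t) :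
    t ∈ SymTen.altSpan R M d := by
  classical
  let B := Basis.piTensorProduct fun _ : Fin d => b
  have hB : ∀ f, B (f ∘ Equiv.swap i j) =
      PiTensorProduct.reindex R (fun _ : Fin d => M) (Equiv.swap i j) (B f) := fun f => by
    simp [B, PiTensorProduct.reindex_tprod]
  have hrepr : ∀ f, B.repr t (f ∘ Equiv.swap i j) = B.repr t f := by
    intro f
    have h : (Finsupp.lapply (f ∘ Equiv.swap i j)).comp (B.repr.toLinearMap.comp
        (PiTensorProduct.reindex R (fun _ : Fin d => M) (Equiv.swap i j)).toLinearMap) =
        (Finsupp.lapply f).comp B.repr.toLinearMap := by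
      refine B.ext fun g => ?_
      simp only [LinearMap.comp_apply, LinearEquiv.coe_coe, Finsupp.lapply_apply, ← hB, Module.Basis.repr_self,
        Finsupp.single_apply]
      exact if_congr ⟨fun h => funext fun k => by simpa using congrFun h (Equiv.swap i j k),
        fun h => by rw [h]⟩ rfl rfl
    have h2 := LinearMap.congr_fun h t
    simpa [ht] using h2
  rw [← Submodule.Quotient.mk_eq_zero, ← Submodule.mkQ_apply, ← B.linearCombination_repr t,
    Finsupp.linearCombination_apply, map_finsuppSum]
  simp only [map_smul]
  refine Finset.sum_involution (fun f _ => f ∘ Equiv.swap i j) (fun f _ => ?_) (fun f _ hne heq => ?_)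
    (fun f hf => ?_) (fun f _ => ?_)
  · show B.repr t f • _ + B.repr t (f ∘ Equiv.swap i j) • _ = 0
    rw [hrepr, ← smul_add]
    simp only [B, Basis.piTensorProduct_apply, ← altMk_apply]
    rw [show (fun k => b ((f ∘ Equiv.swap i j) k)) = (fun k => b (f k)) ∘ Equiv.swap i j from rfl,
      (altMk R d M).map_swap _ hij, add_neg_cancel, smul_zero]
  · apply hne
    show B.repr t f • _ = 0
    simp only [B, Basis.piTensorProduct_apply, ← altMk_apply]
    rw [(altMk R d M).map_eq_zero_of_eq (fun k => b (f k))
      (by simpa using congrArg b (congrFun heq j)) hij, smul_zero]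
  · rw [Finsupp.mem_support_iff] at hf ⊢
    rwa [hrepr]
  · funext k; simp

theorem map_mem_altSpan {N : Type u} [AddCommGroup N] [Module R N] (g : M →ₗ[R] N) {x : ⨂[R] _ : Fin d, M}
    (hx : x ∈ SymTen.altSpan R M d) :
    PiTensorProduct.map (fun _ : Fin d => g) x ∈ SymTen.altSpan R N d := by
  induction hx using Submodule.span_induction with
  | mem y hy =>
    obtain ⟨p, i, j, hij, he, rfl⟩ := hy
    exact Submodule.subset_span ⟨fun k => g (p k), i, j, hij, congrArg g he, PiTensorProduct.map_tprod ..⟩
  | zero => rw [map_zero]; exact zero_mem _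
  | add a b _ _ ha hb => rw [map_add]; exact add_mem ha hb
  | smul r a _ ha => rw [map_smul]; exact Submodule.smul_mem _ r ha

theorem map_reindex {N : Type u} [AddCommGroup N] [Module R N] (g : M →ₗ[R] N) (σ : Equiv.Perm (Fin d))
    (t : ⨂[R] _ : Fin d, M) :
    PiTensorProduct.map (fun _ : Fin d => g) (PiTensorProduct.reindex R (fun _ : Fin d => M) σ t) =
      PiTensorProduct.reindex R (fun _ : Fin d => N) σ (PiTensorProduct.map (fun _ : Fin d => g) t) := by
  induction t using PiTensorProduct.induction_on with
  | smul_tprod c v => simp [PiTensorProduct.reindex_tprod, PiTensorProduct.map_tprod]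
  | add x y hx hy => simp only [map_add, hx, hy]

theorem mem_altSpan_of_swap_projective [Module.Projective R M] {i j : Fin d} (hij : i ≠ j)
    (t : ⨂[R] _ : Fin d, M)
    (ht : PiTensorProduct.reindex R (fun _ : Fin d => M) (Equiv.swap i j) t = t) :
    t ∈ SymTen.altSpan R M d := by
  obtain ⟨s, hs⟩ := ‹Module.Projective R M›.out
  have h1 : PiTensorProduct.map (fun _ : Fin d => s) t ∈ SymTen.altSpan R (M →₀ R) d :=
    mem_altSpan_of_reindex_swap_eq_self Finsupp.basisSingleOne hij _ (by rw [← map_reindex, ht])
  have h2 := map_mem_altSpan (Finsupp.linearCombination R (id : M → M)) h1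
  rwa [← LinearMap.comp_apply, ← PiTensorProduct.map_comp,
    show (fun _ : Fin d => (Finsupp.linearCombination R (id : M → M)).comp s) = fun _ => LinearMap.id from
      funext fun _ => LinearMap.ext hs, PiTensorProduct.map_id, LinearMap.id_apply] at h2

end Alt

section Stable
variable {A : Type u} [CommRing A] [Algebra R A]
  {P : Type u} [AddCommGroup P] [Module R P] [Module A P] [IsScalarTower R A P] [Module.Projective R P]

theorem tpowAct_mem_altSpan {a : ⨂[R] _ : Fin d, A}
    (ha : ∀ σ : Equiv.Perm (Fin d), PiTensorProduct.reindex R (fun _ : Fin d => A) σ a = a)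
    {x : ⨂[R] _ : Fin d, P} (hx : x ∈ SymTen.altSpan R P d) :
    SymTen.tpowAct R A P d a x ∈ SymTen.altSpan R P d := by
  induction hx using Submodule.span_induction with
  | mem y hy =>
    obtain ⟨p, i, j, hij, he, rfl⟩ := hy
    refine mem_altSpan_of_swap_projective hij _ ?_
    rw [reindex_tpowAct, ha, PiTensorProduct.reindex_tprod]
    congr 2
    funext k
    rcases eq_or_ne k i with rfl | hki
    · simp [he]
    rcases eq_or_ne k j with rfl | hkj
    · simp [he]
    · simp [Equiv.swap_apply_of_ne_of_ne hki hkj]
  | zero => rw [map_zero]; exact zero_mem _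
  | add a b _ _ h1 h2 => rw [map_add]; exact add_mem h1 h2
  | smul r a _ h1 => rw [map_smul]; exact Submodule.smul_mem _ r h1

end Stable

end Groth.Agent.SymTen54
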