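import Groth.Agent.SymTen54.Basic
import Mathlib.LinearAlgebra.Determinant
import Mathlib.RingTheory.Norm.Defs
import Mathlib.LinearAlgebra.Dimension.Free

set_option autoImplicit false
universe u
open scoped TensorProduct

namespace Groth.Agent.SymTen54

variable {R : Type u} [CommRing R] {d : ℕ} {S : Type u} [CommRing S] [Algebra R S]
  (b : Module.Basis (Fin d) R S)

/-- The determinant as a linear form on the tensor power. -/
noncomputable def tdet : (⨂[R] _ : Fin d, S) →ₗ[R] R := PiTensorProduct.lift b.det.toMultilinearMap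

theorem tdet_tprod (p : Fin d → S) : tdet b (PiTensorProduct.tprod R p) = b.det p := by
  simp [tdet]

theorem tdet_eq_zero {x : ⨂[R] _ : Fin d, S} (hx : x ∈ SymTen.altSpan R S d) : tdet b x = 0 := by
  induction hx using Submodule.span_induction with
  | mem y hy =>
    obtain ⟨p, i, j, hij, he, rfl⟩ := hy
    rw [tdet_tprod]
    exact b.det.map_eq_zero_of_eq p he hij
  | zero => exact map_zero _
  | add a c _ _ ha hc => rw [map_add, ha, hc, add_zero]
  | smul r a _ ha => rw [map_smul, ha, smul_zero]

theorem mkQ_eq (x : ⨂[R] _ : Fin d, S) :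
    (SymTen.altSpan R S d).mkQ x = tdet b x • (SymTen.altSpan R S d).mkQ (PiTensorProduct.tprod R b) := by
  have h : (altMk R d S : S [⋀^Fin d]→ₗ[R] _) =
      (LinearMap.toSpanSingleton R _ (altMk R d S b)).compAlternatingMap b.det := by
    refine Module.Basis.ext_alternating b fun v hv => ?_
    let σ : Equiv.Perm (Fin d) := Equiv.ofBijective v (Finite.injective_iff_bijective.mp hv)
    have hv' : (fun i => b (v i)) = b ∘ σ := funext fun i => by simp [σ]
    rw [hv', AlternatingMap.map_perm, LinearMap.compAlternatingMap_apply, AlternatingMap.map_perm,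
      b.det_self]
    simp
  have h' : (SymTen.altSpan R S d).mkQ =
      (LinearMap.toSpanSingleton R _ (altMk R d S b)).comp (tdet b) := by
    refine PiTensorProduct.ext (MultilinearMap.ext fun p => ?_)
    have := congrArg (fun F => F p) h
    simpa [altMk_apply, tdet_tprod] using this
  exact LinearMap.congr_fun h' x

theorem sub_smul_tprod_mem (x : ⨂[R] _ : Fin d, S) :
    x - tdet b x • PiTensorProduct.tprod R b ∈ SymTen.altSpan R S d := by
  rw [← Submodule.Quotient.mk_eq_zero, ← Submodule.mkQ_apply, map_sub, map_smul, ← mkQ_eq, sub_self]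

include b in
theorem mul_mem_altSpan {a : ⨂[R] _ : Fin d, S} (ha : a ∈ SymTen.TS R S d) {x : ⨂[R] _ : Fin d, S}
    (hx : x ∈ SymTen.altSpan R S d) : a * x ∈ SymTen.altSpan R S d := by
  have := Module.Free.of_basis b
  rw [← tpowAct_eq_mul]
  exact tpowAct_mem_altSpan ha hx

theorem tdet_mul (a : ⨂[R] _ : Fin d, S) (ha : a ∈ SymTen.TS R S d) (x : ⨂[R] _ : Fin d, S) :
    tdet b (a * x) = tdet b x * tdet b (a * PiTensorProduct.tprod R b) := by
  have h := tdet_eq_zero b (mul_mem_altSpan b ha (sub_smul_tprod_mem b x))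
  rwa [mul_sub, map_sub, sub_eq_zero, mul_smul_comm, map_smul, smul_eq_mul] at h

/-- The action of symmetric tensors on the top exterior power, as a scalar. -/
noncomputable def detHom : SymTen.TS R S d →ₐ[R] R :=
  AlgHom.ofLinearMap
    ((tdet b).comp ((LinearMap.mulRight R (PiTensorProduct.tprod R b)).comp (SymTen.TS R S d).val.toLinearMap))
    (by
      show tdet b ((1 : ⨂[R] _ : Fin d, S) * PiTensorProduct.tprod R b) = 1
      rw [one_mul, tdet_tprod, b.det_self])
    (fun s t => by
      show tdet b (((s : ⨂[R] _ : Fin d, S) * t) * PiTensorProduct.tprod R b) =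
        tdet b ((s : ⨂[R] _ : Fin d, S) * PiTensorProduct.tprod R b) *
          tdet b ((t : ⨂[R] _ : Fin d, S) * PiTensorProduct.tprod R b)
      rw [mul_assoc, tdet_mul b s s.2, mul_comm])

theorem detHom_apply (t : SymTen.TS R S d) :
    detHom b t = tdet b ((t : ⨂[R] _ : Fin d, S) * PiTensorProduct.tprod R b) := rfl

theorem mul_sub_smul_mem (t : SymTen.TS R S d) (x : ⨂[R] _ : Fin d, S) :
    (t : ⨂[R] _ : Fin d, S) * x - detHom b t • x ∈ SymTen.altSpan R S d := by
  rw [← Submodule.Quotient.mk_eq_zero, ← Submodule.mkQ_apply, map_sub, map_smul, mkQ_eq b, mkQ_eq b x,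
    tdet_mul b t t.2, detHom_apply, smul_smul, mul_comm, sub_self]

theorem detHom_tpow (r : S) : detHom b (SymTen.tpow R S d r) = Algebra.norm R r := by
  show tdet b (PiTensorProduct.tprod R (fun _ : Fin d => r) * PiTensorProduct.tprod R b) = _
  rw [PiTensorProduct.tprod_mul_tprod, tdet_tprod, Algebra.norm_apply]
  have := b.det_comp (Algebra.lmul R S r) b
  rw [b.det_self, mul_one] at this
  rw [← this]
  rfl

theorem exists_basis (hd : Module.finrank R S = d) [Nontrivial R] [Module.Free R S] [Module.Finite R S] :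
    Nonempty (Module.Basis (Fin d) R S) :=
  ⟨Module.finBasisOfFinrankEq R S hd⟩

end Groth.Agent.SymTen54
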