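import Groth.Agent.SymTen54.Basic
import Mathlib.LinearAlgebra.Multilinear.Basic
import Mathlib.Data.Nat.Choose.Sum
import Mathlib.Data.Fintype.Perm

set_option autoImplicit false
universe u
open scoped TensorProduct

namespace Groth.Agent.SymTen54

variable {R : Type u} [CommRing R] {n : ℕ} {M : Type u} [AddCommGroup M] [Module R M]

theorem polarization (v : Fin n → M) :
    ∑ σ : Equiv.Perm (Fin n), PiTensorProduct.tprod R (fun i => v (σ i)) =
      ∑ J ∈ (Finset.univ : Finset (Fin n)).powerset,
        (-1 : ℤ) ^ J.card • PiTensorProduct.tprod R (fun _ : Fin n => ∑ i ∈ Jᶜ, v i) := by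
  classical
  have h1 : ∀ J : Finset (Fin n), PiTensorProduct.tprod R (fun _ : Fin n => ∑ i ∈ Jᶜ, v i) =
      ∑ g ∈ Fintype.piFinset (fun _ : Fin n => Jᶜ), PiTensorProduct.tprod R (fun i => v (g i)) := fun J =>
    MultilinearMap.map_sum_finset (PiTensorProduct.tprod R) (fun (_ : Fin n) => v) (fun _ => Jᶜ)
  rw [Finset.sum_congr rfl fun J _ => (congrArg ((-1 : ℤ) ^ J.card • ·) (h1 J)).trans
    (map_sum (zsmulAddGroupHom ((-1 : ℤ) ^ J.card) : (⨂[R] _ : Fin n, M) →+ _) _ _)]
  simp only [zsmulAddGroupHom_apply]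
  rw [Finset.sum_comm' (t' := Finset.univ) (s' := fun g => ((Finset.univ.image g)ᶜ).powerset)
    (fun J g => by
      simp only [Finset.mem_powerset, Fintype.mem_piFinset, Finset.subset_iff, Finset.mem_compl,
        Finset.mem_image, Finset.mem_univ, true_and, and_true, not_exists]
      exact ⟨fun h x hx i hi => h.2 i (hi ▸ hx), fun h => ⟨fun x _ => trivial, fun i hi => h hi i rfl⟩⟩)]
  simp only [← Finset.sum_smul, Finset.sum_powerset_neg_one_pow_card, ite_smul, one_smul, zero_smul]
  rw [← Finset.sum_filter]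
  refine Finset.sum_bij (fun σ _ => ⇑σ) (fun σ _ => ?_) (fun σ _ τ _ h => Equiv.coe_fn_injective h)
    (fun g hg => ?_) (fun σ _ => rfl)
  · simp [Finset.compl_eq_empty_iff]
  · simp only [Finset.mem_filter, Finset.mem_univ, true_and, Finset.compl_eq_empty_iff] at hg
    have hs : Function.Surjective g := fun y => by
      have : y ∈ Finset.univ.image g := by rw [hg]; exact Finset.mem_univ y
      simpa using this
    exact ⟨Equiv.ofBijective g (Finite.surjective_iff_bijective.mp hs), Finset.mem_univ _, rfl⟩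

theorem sum_reindex_mem_span (y : ⨂[R] _ : Fin n, M) :
    ∑ σ : Equiv.Perm (Fin n), PiTensorProduct.reindex R (fun _ : Fin n => M) σ y ∈
      Submodule.span R (Set.range fun r : M => PiTensorProduct.tprod R (fun _ : Fin n => r)) := by
  induction y using PiTensorProduct.induction_on with
  | smul_tprod c v =>
    simp only [map_smul, PiTensorProduct.reindex_tprod, ← Finset.smul_sum]
    refine Submodule.smul_mem _ _ ?_
    rw [← Equiv.sum_comp (Equiv.inv (Equiv.Perm (Fin n)))]
    change ∑ σ : Equiv.Perm (Fin n), PiTensorProduct.tprod R (fun i => v (σ i)) ∈ _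
    rw [polarization]
    exact sum_mem fun J _ => Submodule.smul_of_tower_mem _ _ (Submodule.subset_span ⟨_, rfl⟩)
  | add x y hx hy => simp only [map_add, Finset.sum_add_distrib]; exact add_mem hx hy

theorem mem_span_tpow (h : IsUnit ((n.factorial : ℕ) : R)) {t : ⨂[R] _ : Fin n, M}
    (ht : ∀ σ : Equiv.Perm (Fin n), PiTensorProduct.reindex R (fun _ : Fin n => M) σ t = t) :
    t ∈ Submodule.span R (Set.range fun r : M => PiTensorProduct.tprod R (fun _ : Fin n => r)) := by
  obtain ⟨u, hu⟩ := h
  have h1 := Submodule.smul_mem _ ((u⁻¹ : Rˣ) : R) (sum_reindex_mem_span t)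
  rwa [Finset.sum_congr rfl fun σ _ => ht σ, Finset.sum_const, Finset.card_univ, Fintype.card_perm,
    Fintype.card_fin, ← Nat.cast_smul_eq_nsmul R, smul_smul, ← hu, Units.inv_mul, one_smul] at h1

end Groth.Agent.SymTen54
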