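import Groth.Agent.SymTen54.Det
import Groth.Agent.PolLaw95.SymLaw
import Groth.Prelude.Def_PolLaw2

set_option autoImplicit false
universe u
open scoped TensorProduct

namespace Groth.Agent.SymTen54

variable {R : Type u} [CommRing R] {d : ℕ} {S : Type u} [CommRing S] [Algebra R S]

theorem tpowLaw_sum (P : Type u) [CommSemiring P] [Algebra R P] {n : ℕ} (s : Fin n → P) (v : Fin n → S) :
    (SymTen.tpowLaw R S d).law.toFun' P (∑ j, s j ⊗ₜ[R] v j) =
      ∑ c : Fin d → Fin n, (∏ i, s (c i)) ⊗ₜ[R] PiTensorProduct.tprod R (fun i => v (c i)) := by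
  rw [← PolLaw95.sym0_sum R S d P s v, SymTen.tpowLaw, PolLaw.MulLaw.prodMap_toFun']
  exact Finset.prod_congr rfl fun i _ => (PolLaw.lTensor_algHom_apply _ _ _).symm

theorem perm_comp_single (σ : Equiv.Perm (Fin d)) (j : Fin d) :
    (SymTen.perm R S d σ).comp (PiTensorProduct.singleAlgHom (R := R) (A := fun _ : Fin d => S) j) =
      PiTensorProduct.singleAlgHom (R := R) (A := fun _ : Fin d => S) (σ j) := by
  refine AlgHom.ext fun b => ?_
  simp only [AlgHom.comp_apply, PiTensorProduct.singleAlgHom_apply, SymTen.perm_tprod]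
  congr 1
  funext i
  simp only [MonoidHom.mulSingle_apply, Pi.mulSingle_apply, Equiv.symm_apply_eq]

theorem perm_tpowLaw (σ : Equiv.Perm (Fin d)) :
    PolLaw.postcomp (SymTen.perm R S d σ).toLinearMap (SymTen.tpowLaw R S d).law =
      (SymTen.tpowLaw R S d).law := by
  refine PolLaw95.law_ext fun n z => ?_
  show (SymTen.perm R S d σ).toLinearMap.lTensor _ ((SymTen.tpowLaw R S d).law.toFun' _ z) = _
  simp only [SymTen.tpowLaw, PolLaw.MulLaw.prodMap_toFun', PolLaw.lTensor_algHom_apply, map_prod]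
  refine Fintype.prod_equiv σ _ _ fun j => ?_
  rw [← AlgHom.comp_apply, ← Algebra.TensorProduct.map_id_comp, perm_comp_single]

variable (b : Module.Basis (Fin d) R S)

theorem tdet_law [Module.Free R S] [Module.Finite R S] (hd : Module.finrank R S = d) :
    PolLaw.postcomp ((tdet b).comp (LinearMap.mulRight R (PiTensorProduct.tprod R b)))
      (SymTen.tpowLaw R S d).law = (PolLaw.normLaw R S d hd).law := by
  classical
  refine PolLaw95.law_ext fun m z => ?_
  obtain ⟨n, s, v, rfl⟩ := PolLaw95.exists_eq_sum z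
  show ((tdet b).comp (LinearMap.mulRight R (PiTensorProduct.tprod R b))).lTensor _
    ((SymTen.tpowLaw R S d).law.toFun' _ _) = _
  rw [tpowLaw_sum, map_sum, PolLaw.normLaw_apply, Algebra.norm_apply]
  let bS := Algebra.TensorProduct.basis (MvPolynomial (Fin m) R) b
  have h1 := bS.det_comp (Algebra.lmul (MvPolynomial (Fin m) R) _ (∑ j, s j ⊗ₜ[R] v j)) bS
  rw [bS.det_self, mul_one] at h1
  rw [← h1]
  have h2 : (⇑(Algebra.lmul (MvPolynomial (Fin m) R) _ (∑ j, s j ⊗ₜ[R] v j)) ∘ ⇑bS) =
      fun i => ∑ j, s j • ((1 : MvPolynomial (Fin m) R) ⊗ₜ[R] (v j * b i)) := by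
    funext i
    simp [bS, Finset.sum_mul, Algebra.TensorProduct.tmul_mul_tmul, TensorProduct.smul_tmul']
  have h3 : ∀ w : Fin d → S, bS.det (fun i => (1 : MvPolynomial (Fin m) R) ⊗ₜ[R] w i) =
      algebraMap R (MvPolynomial (Fin m) R) (b.det w) := by
    intro w
    rw [Module.Basis.det_apply, Module.Basis.det_apply, RingHom.map_det]
    congr 1
    ext i j
    simp [bS, Module.Basis.toMatrix_apply]
  rw [h2, show bS.det (fun i => ∑ j, s j • ((1 : MvPolynomial (Fin m) R) ⊗ₜ[R] (v j * b i))) =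
      ∑ c : Fin d → Fin n, (∏ i, s (c i)) *
        algebraMap R (MvPolynomial (Fin m) R) (b.det fun i => v (c i) * b i) by
    rw [← AlternatingMap.coe_multilinearMap, MultilinearMap.map_sum]
    refine Finset.sum_congr rfl fun c _ => ?_
    rw [MultilinearMap.map_smul_univ, AlternatingMap.coe_multilinearMap, h3, smul_eq_mul],
    TensorProduct.sum_tmul]
  refine Finset.sum_congr rfl fun c _ => ?_
  rw [LinearMap.lTensor_tmul, LinearMap.comp_apply, LinearMap.mulRight_apply, PiTensorProduct.tprod_mul_tprod,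
    tdet_tprod]
  conv_rhs => rw [mul_comm (∏ i, s (c i)), ← Algebra.smul_def, TensorProduct.smul_tmul, smul_eq_mul, mul_one]
  rfl

end Groth.Agent.SymTen54
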